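import Mathlib.GroupTheory.Perm.Cycle.Type
import Mathlib.Algebra.Ring.Basic
import Mathlib.Tactic

/-!
# An eight-dimensional space over two elements under three commuting elements of order three

The group permutes the three elements and inverts any two of them.  If the first has a nonzero fixed vector, its
commutator space is a plane, killed by the second.
-/

set_option autoImplicit false
set_option linter.unusedSectionVars false

namespace CfsgLib.ThType.Perm

variable {Γ : Type*} [Group Γ] {V : Type*} [AddCommGroup V]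

/-- A group acting by additive permutations on a space of exponent two. -/
structure Act (Γ : Type*) [Group Γ] (V : Type*) [AddCommGroup V] where
  σ : Γ →* Equiv.Perm V
  add : ∀ (g : Γ) (u w : V), σ g (u + w) = σ g u + σ g w
  two : ∀ v : V, v + v = 0

namespace Act

variable (A : Act Γ V)

/-- The endomorphism of an element. -/
def a (g : Γ) : AddMonoid.End V := AddMonoidHom.mk' (fun v => A.σ g v) (A.add g)

/-- The projection on the fixed vectors of an element of order three. -/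
def E (g : Γ) : AddMonoid.End V := 1 + A.a g + A.a g * A.a g

/-- The projection on the commutator space of an element of order three. -/
def F (g : Γ) : AddMonoid.End V := 1 + A.E g

theorem a_apply (g : Γ) (v : V) : A.a g v = A.σ g v := rfl

theorem a_mul (g h : Γ) : A.a (g * h) = A.a g * A.a h :=
  AddMonoidHom.ext fun v => by
    show A.σ (g * h) v = A.σ g (A.σ h v)
    rw [map_mul]; rfl

theorem a_one : A.a 1 = 1 :=
  AddMonoidHom.ext fun v => by
    show A.σ 1 v = v
    rw [map_one]; rfl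

include A in
theorem two' (f : AddMonoid.End V) : f + f = 0 := AddMonoidHom.ext fun v => A.two (f v)

theorem a_comm {g h : Γ} (c : Commute g h) : Commute (A.a g) (A.a h) :=
  show A.a g * A.a h = A.a h * A.a g by rw [← a_mul, ← a_mul, c.eq]

theorem a_cube {g : Γ} (h : g * g * g = 1) : A.a g * A.a g * A.a g = 1 := by
  rw [← a_mul, ← a_mul, h, a_one]

theorem E_comm {g h : Γ} (c : Commute g h) : Commute (A.E g) (A.E h) := by
  have c' := A.a_comm c
  have l : ∀ f, Commute (A.a g) f → Commute (A.E g) f := fun f hf =>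
    ((Commute.one_left _).add_left hf).add_left (hf.mul_left hf)
  exact l _ (((Commute.one_right _).add_right c').add_right (c'.mul_right c'))

theorem F_comm {g h : Γ} (c : Commute g h) : Commute (A.F g) (A.F h) :=
  ((Commute.one_left _).add_left ((Commute.one_right _).add_right (A.E_comm c)))

theorem EF_comm {g h : Γ} (c : Commute g h) : Commute (A.E g) (A.F h) :=
  (Commute.one_right _).add_right (A.E_comm c)

theorem E_idem {g : Γ} (h : g * g * g = 1) : A.E g * A.E g = A.E g := by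
  have h3 := A.a_cube h
  have h4 : A.a g * A.a g * A.a g * A.a g = A.a g := by rw [h3, one_mul]
  calc A.E g * A.E g
      = 1 + A.a g * A.a g + A.a g * A.a g * A.a g * A.a g + ((A.a g + A.a g) + (A.a g * A.a g + A.a g * A.a g) +
          (A.a g * A.a g * A.a g + A.a g * A.a g * A.a g)) := by
        simp only [E, mul_add, add_mul, one_mul, mul_one, mul_assoc]; abel
    _ = A.E g := by simp only [A.two', add_zero, zero_add, h4, E]; abel

theorem F_idem {g : Γ} (h : g * g * g = 1) : A.F g * A.F g = A.F g := by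
  calc A.F g * A.F g = 1 + A.E g + (A.E g + A.E g * A.E g) := by
        simp only [F, mul_add, add_mul, one_mul, mul_one]
    _ = A.F g := by rw [A.E_idem h, A.two', add_zero, F]

theorem E_add_F (g : Γ) : A.E g + A.F g = 1 := by
  rw [F, add_comm, add_assoc, A.two', add_zero]

/-- Conjugation. -/
def cj (g : Γ) (f : AddMonoid.End V) : AddMonoid.End V := A.a g * f * A.a g⁻¹

theorem inv_a (g : Γ) : A.a g⁻¹ * A.a g = 1 := by rw [← a_mul, inv_mul_cancel, a_one]

theorem a_inv (g : Γ) : A.a g * A.a g⁻¹ = 1 := by rw [← a_mul, mul_inv_cancel, a_one]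

theorem cj_mul (g : Γ) (f f' : AddMonoid.End V) : A.cj g (f * f') = A.cj g f * A.cj g f' := by
  simp only [cj, mul_assoc]
  rw [← mul_assoc (A.a g⁻¹) (A.a g), A.inv_a, one_mul]

theorem cj_E (g x : Γ) : A.cj g (A.E x) = A.E (g * x * g⁻¹) := by
  have e : A.cj g (A.a x) = A.a (g * x * g⁻¹) := by rw [cj, ← a_mul, ← a_mul]
  rw [E, E, ← e, ← A.cj_mul g (A.a x) (A.a x)]
  simp only [cj, mul_add, add_mul, mul_one, A.a_inv]

theorem cj_F (g x : Γ) : A.cj g (A.F x) = A.F (g * x * g⁻¹) := by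
  rw [F, F, ← A.cj_E]
  simp only [cj, mul_add, add_mul, mul_one, A.a_inv]

theorem E_inv {g : Γ} (h : g * g * g = 1) : A.E g⁻¹ = A.E g := by
  have h' : g⁻¹ = g * g := inv_eq_of_mul_eq_one_left h
  rw [E, E, h', a_mul, show A.a g * A.a g * (A.a g * A.a g) = A.a g * A.a g * A.a g * A.a g by
    simp only [mul_assoc], A.a_cube h, one_mul]
  abel

theorem F_inv {g : Γ} (h : g * g * g = 1) : A.F g⁻¹ = A.F g := by rw [F, F, A.E_inv h]

/-- The size of an image. -/
noncomputable def r (f : AddMonoid.End V) : ℕ := Nat.card (Set.range f)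

theorem mul_apply (f f' : AddMonoid.End V) (v : V) : (f * f') v = f (f' v) := rfl

theorem r_cj (g : Γ) (f : AddMonoid.End V) : r (A.cj g f) = r f := by
  refine Nat.card_congr ((Equiv.subtypeEquiv (A.σ g) fun v => ?_).symm)
  constructor
  · rintro ⟨u, rfl⟩
    exact ⟨A.σ g u, by
      show A.σ g (f (A.σ g⁻¹ (A.σ g u))) = _
      rw [← Equiv.Perm.mul_apply (A.σ g⁻¹), ← map_mul, inv_mul_cancel, map_one]; rfl⟩
  · rintro ⟨u, hu⟩
    exact ⟨A.σ g⁻¹ u, (A.σ g).injective hu⟩

include A in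
/-- An idempotent image splits along a commuting projection. -/
theorem r_split {R P Q : AddMonoid.End V} (hR : R * R = R) (hP : P * P = P) (hc : Commute R P)
    (hsum : R * P + R * Q = R) : r R = r (R * P) * r (R * Q) := by
  have hQ : R * Q = R + R * P :=
    calc R * Q = R * P + R * P + R * Q := by rw [A.two', zero_add]
      _ = R * P + R := by rw [add_assoc, hsum]
      _ = _ := add_comm _ _
  have hPR : ∀ v, P (R v) = R (P v) := fun v => (DFunLike.congr_fun hc.eq v).symm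
  have hP' : ∀ v, P (P v) = P v := fun v => DFunLike.congr_fun hP v
  have hR' : ∀ v, R (R v) = R v := fun v => DFunLike.congr_fun hR v
  have q : ∀ v, (R * Q) v = R v + R (P v) := fun v => by rw [hQ]; rfl
  rw [r, r, r, ← Nat.card_prod]
  refine Nat.card_congr
    { toFun := fun v => (⟨(R * P) v, v, rfl⟩, ⟨(R * Q) v, v, rfl⟩)
      invFun := fun p => ⟨p.1 + p.2, by
        obtain ⟨⟨_, u, rfl⟩, ⟨_, u', rfl⟩⟩ := p
        refine ⟨P u + u' + P u', ?_⟩
        show _ = (R * P) u + (R * Q) u'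
        rw [q, mul_apply, map_add, map_add, add_assoc]⟩
      left_inv := fun v => by
        obtain ⟨_, u, rfl⟩ := v
        exact Subtype.ext (DFunLike.congr_fun hsum _ |>.trans (hR' u))
      right_inv := fun p => by
        obtain ⟨⟨_, u, rfl⟩, ⟨_, u', rfl⟩⟩ := p
        refine Prod.ext (Subtype.ext ?_) (Subtype.ext ?_)
        · show (R * P) ((R * P) u + (R * Q) u') = (R * P) u
          rw [q, mul_apply, mul_apply, map_add, map_add, map_add, map_add, hPR, hP', hR', hPR, hPR, hR',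
            hP', hR', A.two, add_zero]
        · show (R * Q) ((R * P) u + (R * Q) u') = (R * Q) u'
          rw [q, q, mul_apply, map_add, map_add, map_add, map_add, map_add, map_add, hPR, hP', hR', hPR,
            hPR, hR', hP', hR']
          calc _ = R (P u) + R (P u) + (R u' + R (P u')) + (R (P u') + R (P u')) := by abel
            _ = _ := by rw [A.two, A.two, zero_add, add_zero] }

theorem r_pow [Finite V] (hV : Nat.card V = 256) (f : AddMonoid.End V) : ∃ k ≤ 8, r f = 2 ^ k := by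
  have h : Nat.card ↥(AddMonoidHom.range (f : V →+ V)) ∣ 2 ^ 8 := by
    rw [show (2 : ℕ) ^ 8 = 256 from rfl, ← hV]
    exact AddSubgroup.card_addSubgroup_dvd_card _
  exact (Nat.dvd_prime_pow Nat.prime_two).1 h

theorem eq_zero_of_r [Finite V] {f : AddMonoid.End V} (h : r f = 1) : f = 0 :=
  AddMonoidHom.ext fun v => by
    haveI := (Nat.card_eq_one_iff_unique.1 h).1
    have e := Subsingleton.elim (α := Set.range f) ⟨f v, v, rfl⟩ ⟨f 0, 0, rfl⟩
    exact (congrArg Subtype.val e).trans (map_zero f)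

/-- An element of order three without fixed vectors on an image counts it. -/
theorem r_mod_three [Finite V] {x : Γ} (hx : x * x * x = 1) {R : AddMonoid.End V} (hR : R * R = R)
    (hc : Commute R (A.a x)) (hF : A.E x * R = 0) : r R % 3 = 1 := by
  classical
  haveI : Fact (Nat.Prime 3) := ⟨Nat.prime_three⟩
  have hperm : ∀ v, v ∈ Set.range R ↔ A.σ x v ∈ Set.range R := by
    intro v
    constructor
    · rintro ⟨u, rfl⟩
      exact ⟨A.σ x u, DFunLike.congr_fun hc.eq u⟩
    · rintro ⟨u, hu⟩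
      refine ⟨v, (A.σ x).injective ?_⟩
      have e : R (A.σ x v) = A.σ x (R v) := DFunLike.congr_fun hc.eq v
      rw [← e, ← hu]
      exact DFunLike.congr_fun hR u
  letI := Fintype.ofFinite V
  set π : Equiv.Perm (Set.range R) := (A.σ x).subtypePerm fun v => (hperm v).symm with hπ
  have h3 : π ^ 3 ^ 1 = 1 := by
    refine Equiv.ext fun v => Subtype.ext ?_
    show A.σ x (A.σ x (A.σ x v)) = v
    rw [← Equiv.Perm.mul_apply, ← Equiv.Perm.mul_apply, ← map_mul, ← map_mul, hx, map_one]; rfl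
  have h := Equiv.Perm.card_compl_support_modEq h3
  have e : π.supportᶜ = {⟨0, 0, map_zero R⟩} := by
    ext v
    simp only [Finset.mem_compl, Equiv.Perm.mem_support, ne_eq, not_not, Finset.mem_singleton]
    constructor
    · intro hv
      have hfix : A.σ x v = v := congrArg Subtype.val hv
      obtain ⟨_, u, rfl⟩ := v
      have h0 : R u + A.σ x (R u) + A.σ x (A.σ x (R u)) = 0 := DFunLike.congr_fun hF u
      simp only at hfix
      rw [hfix, hfix, A.two, zero_add] at h0
      exact Subtype.ext h0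
    · rintro rfl
      exact Subtype.ext (map_zero (A.a x))
  rw [e, Finset.card_singleton, ← Nat.card_eq_fintype_card] at h
  exact h.symm

theorem arith {d s t u : ℕ} (h : d * s ^ 3 * (t ^ 2) ^ 3 * u ^ 4 = 256) (hs : ∃ k ≤ 8, s = 2 ^ k)
    (ht : ∃ k ≤ 8, t = 2 ^ k) (hu : ∃ k ≤ 8, u = 2 ^ k) (hs3 : s % 3 = 1) (ht3 : t % 3 = 1)
    (hu3 : u % 3 = 1) : t = 1 ∧ (s = 4 ∧ u = 1 ∨ s = 1 ∧ u = 4 ∧ d = 1 ∨ s = 1 ∧ u = 1) := by
  obtain ⟨a, ha, rfl⟩ := hs
  obtain ⟨b, hb, rfl⟩ := ht
  obtain ⟨c, hc, rfl⟩ := hu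
  have hbound : 2 ^ (3 * a + 6 * b + 4 * c) ≤ 256 := by
    rw [← h]
    rcases Nat.eq_zero_or_pos d with rfl | hd
    · simp at h
    · calc 2 ^ (3 * a + 6 * b + 4 * c) = 1 * (2 ^ a) ^ 3 * ((2 ^ b) ^ 2) ^ 3 * (2 ^ c) ^ 4 := by ring
        _ ≤ _ := by gcongr; exact hd
  have hle : 3 * a + 6 * b + 4 * c ≤ 8 :=
    (Nat.pow_le_pow_iff_right (by norm_num : 1 < 2)).1 (hbound.trans (by norm_num))
  have a2 : a ≤ 2 := by omega
  have b1 : b ≤ 1 := by omega
  have c2 : c ≤ 2 := by omega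
  interval_cases a <;> interval_cases b <;> interval_cases c <;> simp_all (config := { decide := true })

/-- Three commuting elements of order three with their symmetries. -/
structure Tri (x y w : Γ) : Prop where
  x3 : x * x * x = 1
  y3 : y * y * y = 1
  w3 : w * w * w = 1
  xy : Commute x y
  xw : Commute x w
  yw : Commute y w
  cyc : ∃ g : Γ, g * x * g⁻¹ = y ∧ g * y * g⁻¹ = w ∧ g * w * g⁻¹ = x
  f12 : ∃ g : Γ, g * x * g⁻¹ = x⁻¹ ∧ g * y * g⁻¹ = y⁻¹ ∧ g * w * g⁻¹ = w
  f13 : ∃ g : Γ, g * x * g⁻¹ = x⁻¹ ∧ g * y * g⁻¹ = y ∧ g * w * g⁻¹ = w⁻¹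
  f23 : ∃ g : Γ, g * x * g⁻¹ = x ∧ g * y * g⁻¹ = y⁻¹ ∧ g * w * g⁻¹ = w⁻¹

theorem split_FF {g h : Γ} (c : Commute g h) (hh : h * h * h = 1) :
    A.E (g * h⁻¹) + A.E (g * h) = A.F g * A.F h := by
  have hb : h⁻¹ = h * h := inv_eq_of_mul_eq_one_left hh
  have cab := (A.a_comm c).eq
  have hg4 : A.a h * A.a h * A.a h * A.a h = A.a h := by rw [A.a_cube hh, one_mul]
  have F' : ∀ k : Γ, A.F k = A.a k + A.a k * A.a k := fun k => by
    rw [F, E, ← add_assoc, ← add_assoc, A.two', zero_add]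
  have sq1 : A.a g * A.a h * (A.a g * A.a h) = A.a g * A.a g * (A.a h * A.a h) :=
    (A.a_comm c).symm.mul_mul_mul_comm _ _
  have sq2 : A.a g * (A.a h * A.a h) * (A.a g * (A.a h * A.a h)) = A.a g * A.a g * A.a h := by
    have c2 : Commute (A.a h * A.a h) (A.a g) := ((A.a_comm c).mul_right (A.a_comm c)).symm
    rw [mul_assoc, ← mul_assoc (A.a h * A.a h), c2.eq, mul_assoc (A.a g) (A.a h * A.a h),
      show A.a h * A.a h * (A.a h * A.a h) = A.a h by simpa [mul_assoc] using hg4]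
    simp only [mul_assoc]
  rw [E, E, hb, a_mul, a_mul, a_mul, sq1, sq2, F' g, F' h]
  simp only [mul_add, add_mul]
  calc _ = (1 + 1) + (A.a g * A.a h + A.a g * A.a g * A.a h + (A.a g * (A.a h * A.a h) +
        A.a g * A.a g * (A.a h * A.a h))) := by abel
    _ = _ := by rw [A.two', zero_add]

variable {x y w : Γ}

/-- The commutator space is a plane killed by the other two. -/
theorem planes [Finite V] (hV : Nat.card V = 256) (T : Tri x y w) (hne : ¬ ∀ v, A.σ x v = v)
    (hfix : ∃ f : V, f ≠ 0 ∧ A.σ x f = f) : r (A.F x) = 4 ∧ A.F x * A.F y = 0 := by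
  obtain ⟨hx, hy, hw, cxy, cxw, cyw, ⟨g, gx, gy, gw⟩, ⟨p, px, py, pw⟩, ⟨q, qx, qy, qw⟩, ⟨o, ox, oy, ow⟩⟩ := T
  have iex := A.E_idem hx
  have iey := A.E_idem hy
  have iew := A.E_idem hw
  have ifx := A.F_idem hx
  have ify := A.F_idem hy
  have ifw := A.F_idem hw
  have sum : ∀ (R : AddMonoid.End V) (k : Γ), R * A.E k + R * A.F k = R := fun R k => by
    rw [← mul_add, A.E_add_F, mul_one]
  have id2 : ∀ {P Q : AddMonoid.End V}, P * P = P → Q * Q = Q → Commute P Q → P * Q * (P * Q) = P * Q :=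
    fun hP hQ hc => by rw [hc.symm.mul_mul_mul_comm, hP, hQ]
  have rot : ∀ {P Q R : AddMonoid.End V}, Commute P Q → Commute P R → Q * R * P = P * Q * R := fun h1 h2 => by
    rw [← (h1.mul_right h2).eq, mul_assoc]
  -- the binary splittings
  have s0 : r (1 : AddMonoid.End V) = r (A.E x) * r (A.F x) := by
    have h := A.r_split (R := 1) (P := A.E x) (Q := A.F x) (mul_one 1) iex (Commute.one_left _)
      (by rw [← mul_add, A.E_add_F, mul_one])
    rwa [one_mul, one_mul] at h
  have s1 := A.r_split iex iey (A.E_comm cxy) (sum (A.E x) y)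
  have s2 := A.r_split ifx iey (A.EF_comm cxy.symm).symm (sum (A.F x) y)
  have s11 := A.r_split (id2 iex iey (A.E_comm cxy)) iew ((A.E_comm cxw).mul_left (A.E_comm cyw))
    (sum (A.E x * A.E y) w)
  have s12 := A.r_split (id2 iex ify (A.EF_comm cxy)) iew ((A.E_comm cxw).mul_left (A.EF_comm cyw.symm).symm)
    (sum (A.E x * A.F y) w)
  have s21 := A.r_split (id2 ifx iey (A.EF_comm cxy.symm).symm) iew
    ((A.EF_comm cxw.symm).symm.mul_left (A.E_comm cyw)) (sum (A.F x * A.E y) w)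
  have s22 := A.r_split (id2 ifx ify (A.F_comm cxy)) iew
    ((A.EF_comm cxw.symm).symm.mul_left (A.EF_comm cyw.symm).symm) (sum (A.F x * A.F y) w)
  -- the three pieces of each weight
  have p1 : r (A.E x * A.F y * A.E w) = r (A.F x * A.E y * A.E w) := by
    rw [← A.r_cj g (A.F x * A.E y * A.E w)]
    simp only [cj_mul, cj_E, cj_F, gx, gy, gw]
    rw [rot (A.EF_comm cxy) (A.E_comm cxw)]
  have p2 : r (A.E x * A.E y * A.F w) = r (A.F x * A.E y * A.E w) := by
    rw [← p1, ← A.r_cj g (A.E x * A.F y * A.E w)]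
    simp only [cj_mul, cj_E, cj_F, gx, gy, gw]
    rw [rot (A.E_comm cxy) (A.EF_comm cxw)]
  have p3 : r (A.F x * A.F y * A.E w) = r (A.E x * A.F y * A.F w) := by
    rw [← A.r_cj g (A.F x * A.F y * A.E w)]
    simp only [cj_mul, cj_E, cj_F, gx, gy, gw]
    rw [rot (A.EF_comm cxy) (A.EF_comm cxw)]
  have p4 : r (A.F x * A.E y * A.F w) = r (A.E x * A.F y * A.F w) := by
    rw [← A.r_cj g (A.E x * A.F y * A.F w)]
    simp only [cj_mul, cj_E, cj_F, gx, gy, gw]
    rw [rot (A.EF_comm cxy.symm).symm (A.F_comm cxw)]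
  -- the two halves of weight two
  have hyw2 : y * w⁻¹ * (y * w⁻¹) * (y * w⁻¹) = 1 := by
    have : (y * w⁻¹) ^ 3 = 1 := by
      rw [cyw.inv_right.mul_pow, inv_pow, pow_three', pow_three', hy, hw, inv_one, one_mul]
    rwa [pow_three'] at this
  have hyw3 : y * w * (y * w) * (y * w) = 1 := by
    have : (y * w) ^ 3 = 1 := by rw [cyw.mul_pow, pow_three', pow_three', hy, hw, one_mul]
    rwa [pow_three'] at this
  have hxy2 : x * y⁻¹ * (x * y⁻¹) * (x * y⁻¹) = 1 := by
    have : (x * y⁻¹) ^ 3 = 1 := by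
      rw [cxy.inv_right.mul_pow, inv_pow, pow_three', pow_three', hx, hy, inv_one, one_mul]
    rwa [pow_three'] at this
  have hxy3 : x * y * (x * y) * (x * y) = 1 := by
    have : (x * y) ^ 3 = 1 := by rw [cxy.mul_pow, pow_three', pow_three', hx, hy, one_mul]
    rwa [pow_three'] at this
  set R2 := A.E x * A.F y * A.F w with hR2
  have iR2 : R2 * R2 = R2 :=
    id2 (id2 iex ify (A.EF_comm cxy)) ifw ((A.EF_comm cxw).mul_left (A.F_comm cyw))
  have cP2 : Commute R2 (A.E (y * w⁻¹)) :=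
    ((A.E_comm (cxy.mul_right cxw.inv_right)).mul_left
      (A.EF_comm ((Commute.refl y).mul_left cyw.symm.inv_left)).symm).mul_left
      (A.EF_comm (cyw.mul_left (Commute.refl w).inv_left)).symm
  have s3 : r R2 = r (R2 * A.E (y * w⁻¹)) * r (R2 * A.E (y * w)) :=
    A.r_split iR2 (A.E_idem hyw2) cP2 (by
      rw [← mul_add, A.split_FF cyw hw, hR2, ← mul_assoc]
      calc A.E x * A.F y * A.F w * A.F y * A.F w
          = A.E x * A.F y * (A.F y * A.F w) * A.F w := by rw [(A.F_comm cyw).eq]; simp only [mul_assoc]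
        _ = A.E x * (A.F y * A.F y) * (A.F w * A.F w) := by simp only [mul_assoc]
        _ = _ := by rw [ify, ifw])
  have e3 : r (R2 * A.E (y * w⁻¹)) = r (R2 * A.E (y * w)) := by
    conv_lhs => rw [← A.r_cj p, hR2]
    simp only [cj_mul, cj_E, cj_F, px, py, pw, conj_inv, A.E_inv hx, A.F_inv hy]
    have e : p * (y * w⁻¹) * p⁻¹ = (y * w)⁻¹ := by
      rw [show p * (y * w⁻¹) * p⁻¹ = p * y * p⁻¹ * (p * w * p⁻¹)⁻¹ by group, py, pw, mul_inv_rev,
        ← (cyw.inv_left.inv_right).eq]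
    rw [e, A.E_inv hyw3, hR2]
  -- the four quarters of weight three
  set R3 := A.F x * A.F y * A.F w with hR3
  have iR3 : R3 * R3 = R3 :=
    id2 (id2 ifx ify (A.F_comm cxy)) ifw ((A.F_comm cxw).mul_left (A.F_comm cyw))
  have cQ : ∀ k : Γ, Commute x k → Commute y k → Commute w k → Commute R3 (A.E k) := fun k h1 h2 h3 =>
    ((A.EF_comm h1.symm).symm.mul_left (A.EF_comm h2.symm).symm).mul_left (A.EF_comm h3.symm).symm
  have absX : R3 * (A.F x * A.F y) = R3 := by
    rw [hR3]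
    calc A.F x * A.F y * A.F w * (A.F x * A.F y)
        = A.F x * A.F y * (A.F x * A.F y) * A.F w := by
          rw [mul_assoc (A.F x * A.F y), ((A.F_comm cxw.symm).mul_right (A.F_comm cyw.symm)).eq, ← mul_assoc]
      _ = _ := by rw [id2 ifx ify (A.F_comm cxy)]
  have absY : R3 * (A.F y * A.F w) = R3 := by
    rw [hR3, mul_assoc (A.F x), mul_assoc (A.F x), id2 ify ifw (A.F_comm cyw)]
  have s4 : r R3 = r (R3 * A.E (x * y⁻¹)) * r (R3 * A.E (x * y)) :=
    A.r_split iR3 (A.E_idem hxy2) (cQ _ ((Commute.refl x).mul_right cxy.inv_right)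
      (cxy.symm.mul_right (Commute.refl y).inv_right) (cxw.symm.mul_right cyw.symm.inv_right))
      (by rw [← mul_add, A.split_FF cxy hy, absX])
  have s5 : ∀ k : Γ, k * k * k = 1 → Commute x k → Commute y k → Commute w k →
      r (R3 * A.E k) = r (R3 * A.E k * A.E (y * w⁻¹)) * r (R3 * A.E k * A.E (y * w)) := fun k hk h1 h2 h3 => by
    have c1 : Commute R3 (A.E k) := cQ k h1 h2 h3
    have c2 : Commute R3 (A.E (y * w⁻¹)) := cQ _ (cxy.mul_right cxw.inv_right)
      ((Commute.refl y).mul_right cyw.inv_right) (cyw.symm.mul_right (Commute.refl w).inv_right)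
    have c3 : Commute (A.E k) (A.E (y * w⁻¹)) := A.E_comm (h2.symm.mul_right h3.symm.inv_right)
    refine A.r_split (id2 iR3 (A.E_idem hk) c1) (A.E_idem hyw2) (c2.mul_left c3) ?_
    have c4 : Commute (A.E k) (A.F y * A.F w) := (A.EF_comm h2.symm).mul_right (A.EF_comm h3.symm)
    rw [← mul_add, A.split_FF cyw hw, mul_assoc, c4.eq, ← mul_assoc, absY]
  have t1 := s5 _ hxy2 ((Commute.refl x).mul_right cxy.inv_right)
    (cxy.symm.mul_right (Commute.refl y).inv_right) (cxw.symm.mul_right cyw.symm.inv_right)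
  have t2 := s5 _ hxy3 ((Commute.refl x).mul_right cxy) (cxy.symm.mul_right (Commute.refl y))
    (cxw.symm.mul_right cyw.symm)
  have mv : ∀ {k a b c : Γ}, k * x * k⁻¹ = a → k * y * k⁻¹ = b → k * w * k⁻¹ = c → (A.F a = A.F x) →
      (A.F b = A.F y) → (A.F c = A.F w) → ∀ m n : Γ, r (R3 * A.E m * A.E n) =
        r (R3 * A.E (k * m * k⁻¹) * A.E (k * n * k⁻¹)) := by
    intro k a b c ha hb hc ea eb ec m n
    conv_lhs => rw [← A.r_cj k, hR3]
    simp only [cj_mul, cj_E, cj_F, ha, hb, hc, ea, eb, ec, hR3]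
  have fx := A.F_inv hx
  have fy := A.F_inv hy
  have fw := A.F_inv hw
  have cxy' : (x⁻¹ * y⁻¹ : Γ) = (x * y)⁻¹ := by rw [mul_inv_rev, cxy.inv_left.inv_right.eq]
  have cyw' : (y⁻¹ * w⁻¹ : Γ) = (y * w)⁻¹ := by rw [mul_inv_rev, cyw.inv_left.inv_right.eq]
  have q12 : r (R3 * A.E (x * y⁻¹) * A.E (y * w⁻¹)) = r (R3 * A.E (x * y⁻¹) * A.E (y * w)) := by
    rw [mv px py pw fx fy rfl, show p * (x * y⁻¹) * p⁻¹ = x⁻¹ * y by
      rw [show p * (x * y⁻¹) * p⁻¹ = p * x * p⁻¹ * (p * y * p⁻¹)⁻¹ by group, px, py, inv_inv],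
      show p * (y * w⁻¹) * p⁻¹ = (y * w)⁻¹ by
        rw [show p * (y * w⁻¹) * p⁻¹ = p * y * p⁻¹ * (p * w * p⁻¹)⁻¹ by group, py, pw, cyw'],
      show (x⁻¹ * y : Γ) = (x * y⁻¹)⁻¹ by rw [mul_inv_rev, inv_inv, cxy.inv_left.eq],
      A.E_inv hxy2, A.E_inv hyw3]
  have q13 : r (R3 * A.E (x * y⁻¹) * A.E (y * w⁻¹)) = r (R3 * A.E (x * y) * A.E (y * w⁻¹)) := by
    rw [mv ox oy ow rfl fy fw, show o * (x * y⁻¹) * o⁻¹ = x * y by
      rw [show o * (x * y⁻¹) * o⁻¹ = o * x * o⁻¹ * (o * y * o⁻¹)⁻¹ by group, ox, oy, inv_inv],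
      show o * (y * w⁻¹) * o⁻¹ = (y * w⁻¹)⁻¹ by
        rw [show o * (y * w⁻¹) * o⁻¹ = o * y * o⁻¹ * (o * w * o⁻¹)⁻¹ by group, oy, ow, inv_inv, mul_inv_rev,
          inv_inv, cyw.inv_left.eq],
      A.E_inv hyw2]
  have q14 : r (R3 * A.E (x * y⁻¹) * A.E (y * w⁻¹)) = r (R3 * A.E (x * y) * A.E (y * w)) := by
    rw [mv qx qy qw fx rfl fw, show q * (x * y⁻¹) * q⁻¹ = (x * y)⁻¹ by
      rw [show q * (x * y⁻¹) * q⁻¹ = q * x * q⁻¹ * (q * y * q⁻¹)⁻¹ by group, qx, qy, cxy'],
      show q * (y * w⁻¹) * q⁻¹ = y * w by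
        rw [show q * (y * w⁻¹) * q⁻¹ = q * y * q⁻¹ * (q * w * q⁻¹)⁻¹ by group, qy, qw, inv_inv],
      A.E_inv hxy3]
  set d := r (A.E x * A.E y * A.E w)
  set s := r (A.F x * A.E y * A.E w) with hs_def
  set t := r (R2 * A.E (y * w)) with ht_def
  set u := r (R3 * A.E (x * y) * A.E (y * w)) with hu_def
  have hR2r : r R2 = t ^ 2 := by rw [s3, e3, sq]
  have hR3r : r R3 = u ^ 4 := by
    rw [s4, t1, t2, ← q12, ← q13, q14]; ring
  have h1 : r (1 : AddMonoid.End V) = 256 := by
    rw [← hV, r, show Set.range (1 : AddMonoid.End V) = Set.univ from Set.range_id]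
    exact Nat.card_congr (Equiv.Set.univ V)
  rw [s0, s1, s2, s11, s12, s21, s22, p1, p2, p3, p4, hR2r, hR3r] at h1
  -- residues
  have kill : ∀ {R : AddMonoid.End V}, A.F x * R = R → A.E x * R = 0 := fun {R} h => by
    rw [← h, ← mul_assoc, F, mul_add, mul_one, iex, A.two', zero_mul]
  have cax : ∀ k : Γ, Commute x k → Commute (A.E k) (A.a x) := fun k hk =>
    ((Commute.one_left _).add_left (A.a_comm hk.symm)).add_left ((A.a_comm hk.symm).mul_left (A.a_comm hk.symm))
  have cfx : ∀ k : Γ, Commute x k → Commute (A.F k) (A.a x) := fun k hk =>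
    (Commute.one_left _).add_left (cax k hk)
  have hs3 : s % 3 = 1 := A.r_mod_three hx
    (id2 (id2 ifx iey (A.EF_comm cxy.symm).symm) iew ((A.EF_comm cxw.symm).symm.mul_left (A.E_comm cyw)))
    (((cfx x (Commute.refl x)).mul_left (cax y cxy)).mul_left (cax w cxw))
    (kill (by rw [← mul_assoc, ← mul_assoc, ifx]))
  have hu3 : u % 3 = 1 := A.r_mod_three hx
    (id2 (id2 iR3 (A.E_idem hxy3) (cQ _ ((Commute.refl x).mul_right cxy) (cxy.symm.mul_right (Commute.refl y))
      (cxw.symm.mul_right cyw.symm))) (A.E_idem hyw3)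
      ((cQ _ (cxy.mul_right cxw) ((Commute.refl y).mul_right cyw) (cyw.symm.mul_right (Commute.refl w))).mul_left
        (A.E_comm ((cxy.mul_right cxw).mul_left ((Commute.refl y).mul_right cyw)))))
    (((((cfx x (Commute.refl x)).mul_left (cfx y cxy)).mul_left (cfx w cxw)).mul_left
      (cax _ ((Commute.refl x).mul_right cxy))).mul_left (cax _ (cxy.mul_right cxw)))
    (kill (by rw [hR3]; simp only [← mul_assoc, ifx]))
  have ht3 : t % 3 = 1 := by
    have cay : ∀ k : Γ, Commute y k → Commute (A.E k) (A.a y) := fun k hk =>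
      ((Commute.one_left _).add_left (A.a_comm hk.symm)).add_left ((A.a_comm hk.symm).mul_left (A.a_comm hk.symm))
    have cfy : ∀ k : Γ, Commute y k → Commute (A.F k) (A.a y) := fun k hk =>
      (Commute.one_left _).add_left (cay k hk)
    refine A.r_mod_three hy (id2 iR2 (A.E_idem hyw3) ?_) ?_ ?_
    · exact ((A.E_comm (cxy.mul_right cxw)).mul_left
        (A.EF_comm ((Commute.refl y).mul_left cyw.symm)).symm).mul_left
        (A.EF_comm (cyw.mul_left (Commute.refl w))).symm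
    · exact (((cay x cxy.symm).mul_left (cfy y (Commute.refl y))).mul_left (cfy w cyw)).mul_left
        (cay _ ((Commute.refl y).mul_right cyw))
    · rw [hR2, ← mul_assoc, ← mul_assoc, ← mul_assoc, (A.E_comm cxy.symm).eq, mul_assoc (A.E x) (A.E y),
        F, mul_add, mul_one, iey, A.two', mul_zero, zero_mul, zero_mul]
  obtain ⟨ht1, hc⟩ := arith (d := d) (s := s) (t := t) (u := u) (by rw [← h1]; ring) (r_pow hV _)
    (r_pow hV _) (r_pow hV _) hs3 ht3 hu3
  have rEx : r (A.E x) = d * s * (s * t ^ 2) := by rw [s1, s11, s12, p1, p2, hR2r]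
  have rFxy : r (A.F x * A.F y) = t ^ 2 * u ^ 4 := by rw [s22, p3, hR2r, hR3r]
  have rFx : r (A.F x) = s * t ^ 2 * (t ^ 2 * u ^ 4) := by
    rw [s2, s21, p4, hR2r, rFxy]
  rcases hc with ⟨hs, hu⟩ | ⟨hs, hu, hd⟩ | ⟨hs, hu⟩
  · rw [rFx, hs, ht1, hu]
    exact ⟨rfl, eq_zero_of_r (by rw [rFxy, ht1, hu]; rfl)⟩
  · exfalso
    obtain ⟨f, hf, hxf⟩ := hfix
    have e : A.E x = 0 := eq_zero_of_r (by rw [rEx, hs, ht1, hd]; rfl)
    have e' : A.E x f = f := by
      show f + A.σ x f + A.σ x (A.σ x f) = f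
      rw [hxf, hxf, A.two, zero_add]
    rw [e] at e'
    exact hf e'.symm
  · exfalso
    have e : A.F x = 0 := eq_zero_of_r (by rw [rFx, hs, ht1, hu]; rfl)
    refine hne fun v => ?_
    have e' : v + (v + A.σ x v + A.σ x (A.σ x v)) = 0 := DFunLike.congr_fun e v
    rw [← add_assoc, ← add_assoc, A.two, zero_add] at e'
    have e2 : A.σ x (A.σ x v) = A.σ x v := by
      rw [← add_left_cancel_iff (a := A.σ x v), e', A.two]
    exact (A.σ x).injective e2

end Act

end CfsgLib.ThType.Perm
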