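import Cfsg.Agent.Lib.ThType.Perm.Pieces
import Cfsg.Agent.Lib.ThType.Fusion.NineList

/-!
# The planes of the three-cycles and the vectors of the pairs

If a three-cycle of `A₉` has a fixed vector on a faithful space of order `2⁸`, the planes of two three-cycles
with a common pair meet in a vector, attached to the pair.
-/

set_option autoImplicit false
set_option linter.unusedSectionVars false
set_option maxRecDepth 100000

namespace CfsgLib.ThType.Perm

open Equiv CfsgLib.ThType.Nine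

/-- The alternating group. -/
abbrev A9 : Type := ↥(alternatingGroup (Fin 9))

/-- A three-cycle. -/
def cy (a b c : Fin 9) : A9 :=
  if h : Equiv.Perm.sign (swap a b * swap b c) = 1 then ⟨_, Equiv.Perm.mem_alternatingGroup.2 h⟩ else 1

theorem cy_conj (g : A9) (a b c : Fin 9) :
    g * cy a b c * g⁻¹ = cy ((g : P9) a) ((g : P9) b) ((g : P9) c) := by
  have e : swap ((g : P9) a) ((g : P9) b) * swap ((g : P9) b) ((g : P9) c) =
      (g : P9) * (swap a b * swap b c) * (g : P9)⁻¹ := by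
    rw [Equiv.swap_apply_apply, Equiv.swap_apply_apply]; group
  have hm : Equiv.Perm.sign (swap a b * swap b c) = 1 ↔
      Equiv.Perm.sign (swap ((g : P9) a) ((g : P9) b) * swap ((g : P9) b) ((g : P9) c)) = 1 := by
    rw [e, map_mul _ _ (g : P9)⁻¹, map_mul _ (g : P9), map_inv, mul_inv_cancel_comm]
  unfold cy
  by_cases h : Equiv.Perm.sign (swap a b * swap b c) = 1
  · rw [dif_pos h, dif_pos (hm.1 h)]
    exact Subtype.ext e.symm
  · rw [dif_neg h, dif_neg fun h' => h (hm.2 h')]; group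

/-- An element with given values. -/
theorem exists_el (L : List ℕ) (h : (sorts L && evenL L) = true) : ∃ g : A9, enc (g : P9) = L := by
  rw [Bool.and_eq_true] at h
  obtain ⟨σ, hσ, hp⟩ := of_sorts h.1
  exact ⟨⟨σ, hp.2 h.2⟩, hσ⟩

theorem val_of_enc {g : A9} {L : List ℕ} (h : enc (g : P9) = L) (i : Fin 9) :
    (g : P9) i = Fin.ofNat 9 (L.getD i 0) := by
  rw [← h, enc_getElem]; exact (Fin.cast_val_eq_self _).symm

/-- Conjugating a cycle by the element with given values. -/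
theorem cy_conj' {g : A9} {L : List ℕ} (h : enc (g : P9) = L) (a b c : Fin 9) :
    g * cy a b c * g⁻¹ = cy (Fin.ofNat 9 (L.getD a 0)) (Fin.ofNat 9 (L.getD b 0)) (Fin.ofNat 9 (L.getD c 0)) := by
  rw [cy_conj, val_of_enc h, val_of_enc h, val_of_enc h]

theorem tri : Act.Tri (cy 0 1 2) (cy 3 4 5) (cy 6 7 8) := by
  refine ⟨by decide +kernel, by decide +kernel, by decide +kernel, show _ * _ = _ * _ by decide +kernel,
    show _ * _ = _ * _ by decide +kernel, show _ * _ = _ * _ by decide +kernel, ?_, ?_, ?_, ?_⟩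
  · obtain ⟨g, hg⟩ := exists_el [3, 4, 5, 6, 7, 8, 0, 1, 2] (by decide +kernel)
    exact ⟨g, by rw [cy_conj' hg]; rfl, by rw [cy_conj' hg]; rfl, by rw [cy_conj' hg]; rfl⟩
  · obtain ⟨g, hg⟩ := exists_el [1, 0, 2, 4, 3, 5, 6, 7, 8] (by decide +kernel)
    exact ⟨g, by rw [cy_conj' hg]; decide +kernel, by rw [cy_conj' hg]; decide +kernel, by
      rw [cy_conj' hg]; decide +kernel⟩
  · obtain ⟨g, hg⟩ := exists_el [1, 0, 2, 3, 4, 5, 7, 6, 8] (by decide +kernel)
    exact ⟨g, by rw [cy_conj' hg]; decide +kernel, by rw [cy_conj' hg]; decide +kernel, by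
      rw [cy_conj' hg]; decide +kernel⟩
  · obtain ⟨g, hg⟩ := exists_el [0, 1, 2, 4, 3, 5, 7, 6, 8] (by decide +kernel)
    exact ⟨g, by rw [cy_conj' hg]; decide +kernel, by rw [cy_conj' hg]; decide +kernel, by
      rw [cy_conj' hg]; decide +kernel⟩

/-- A faithful action with a three-cycle fixing a vector. -/
structure Fixing (V : Type*) [AddCommGroup V] extends Act A9 V where
  card : Nat.card V = 256
  inj : Function.Injective σ
  fix : ∃ f : V, f ≠ 0 ∧ σ (cy 0 1 2) f = f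

namespace Fixing

variable {V : Type*} [AddCommGroup V] (D : Fixing V)

/-- The plane of a three-cycle, as the fixed vectors of its projection. -/
def L (g : A9) : Set V := {v | D.toAct.F g v = v}

include D in
theorem finite : Finite V := Nat.finite_of_card_ne_zero (by rw [D.card]; norm_num)

theorem planes : Act.r (D.toAct.F (cy 0 1 2)) = 4 ∧ D.toAct.F (cy 0 1 2) * D.toAct.F (cy 3 4 5) = 0 := by
  haveI := D.finite
  refine D.toAct.planes D.card tri (fun h => ?_) D.fix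
  have : D.σ (cy 0 1 2) = D.σ 1 := by rw [map_one]; exact Equiv.ext h
  exact absurd (D.inj this) (by decide +kernel)

theorem L_conj {g h k : A9} (e : g * h * g⁻¹ = k) {v : V} (hv : v ∈ D.L h) : D.σ g v ∈ D.L k := by
  show D.toAct.F k (D.σ g v) = D.σ g v
  rw [← e, ← D.toAct.cj_F]
  show D.σ g (D.toAct.F h (D.σ g⁻¹ (D.σ g v))) = _
  rw [← Equiv.Perm.mul_apply (D.σ g⁻¹), ← map_mul, inv_mul_cancel, map_one, Equiv.Perm.one_apply, hv]

theorem L_inv {g : A9} (h : g * g * g = 1) : D.L g⁻¹ = D.L g := by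
  simp only [L, D.toAct.F_inv h]

theorem mem_L {g : A9} (h : g * g * g = 1) (v : V) : D.toAct.F g v ∈ D.L g :=
  DFunLike.congr_fun (D.toAct.F_idem h) v

theorem L_eq {g : A9} (h : g * g * g = 1) : D.L g = Set.range (D.toAct.F g) := by
  ext v
  exact ⟨fun hv => ⟨v, hv⟩, fun ⟨u, hu⟩ => hu ▸ D.mem_L h u⟩

theorem L_add {g : A9} {u v : V} (hu : u ∈ D.L g) (hv : v ∈ D.L g) : u + v ∈ D.L g := by
  show D.toAct.F g (u + v) = u + v
  rw [map_add, hu, hv]

theorem card_conj {g h k : A9} (e : g * h * g⁻¹ = k) : Nat.card ↥(D.L h) = Nat.card ↥(D.L k) := by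
  refine Nat.card_congr (Equiv.subtypeEquiv (D.σ g) fun v => ⟨D.L_conj e, fun hv => ?_⟩)
  have h' := D.L_conj (g := g⁻¹) (k := h) (by rw [← e]; group) hv
  rwa [← Equiv.Perm.mul_apply, ← map_mul, inv_mul_cancel, map_one, Equiv.Perm.one_apply] at h'

theorem card_x : Nat.card ↥(D.L (cy 0 1 2)) = 4 := by
  rw [D.L_eq (by decide +kernel)]; exact D.planes.1

theorem orth_conj {g a b : A9} (ea : g * cy 0 1 2 * g⁻¹ = a) (eb : g * cy 3 4 5 * g⁻¹ = b) :
    D.toAct.F a * D.toAct.F b = 0 := by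
  rw [← ea, ← eb, ← D.toAct.cj_F, ← D.toAct.cj_F, ← D.toAct.cj_mul, D.planes.2]
  simp [Act.cj]

theorem orth_conj' {g a b : A9} (ea : g * cy 0 1 2 * g⁻¹ = a) (eb : g * cy 3 4 5 * g⁻¹ = b)
    (hc : Commute a b) : D.toAct.F b * D.toAct.F a = 0 := by
  rw [(D.toAct.F_comm hc).symm.eq, D.orth_conj ea eb]

/-- The sum of two planes. -/
def sum2 (g h : A9) : Set V := Set.image2 (· + ·) (D.L g) (D.L h)

theorem sum2_add {g h : A9} {u v : V} (hu : u ∈ D.sum2 g h) (hv : v ∈ D.sum2 g h) : u + v ∈ D.sum2 g h := by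
  obtain ⟨a, ha, b, hb, rfl⟩ := hu
  obtain ⟨c, hc, d, hd, rfl⟩ := hv
  exact ⟨a + c, D.L_add ha hc, b + d, D.L_add hb hd, add_add_add_comm a c b d⟩

/-- The elements moving every vector inside the sum of two planes of the generators. -/
def mover : Subgroup A9 where
  carrier := {g | ∀ v, D.σ g v + v ∈ D.sum2 (cy 0 1 2) (cy 2 3 4)}
  one_mem' v := ⟨0, map_zero _, 0, map_zero _, by
    show (0 : V) + 0 = D.σ 1 v + v
    rw [map_one, Equiv.Perm.one_apply, D.two, D.two]⟩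
  mul_mem' {g h} hg hh v := by
    have e : D.σ (g * h) v + v = (D.σ g (D.σ h v) + D.σ h v) + (D.σ h v + v) := by
      rw [map_mul, Equiv.Perm.mul_apply, add_assoc, ← add_assoc (D.σ h v), D.two, zero_add]
    rw [e]
    exact D.sum2_add (hg _) (hh v)
  inv_mem' {g} hg v := by
    have h := hg (D.σ g⁻¹ v)
    rwa [← Equiv.Perm.mul_apply, ← map_mul, mul_inv_cancel, map_one, Equiv.Perm.one_apply, add_comm] at h

theorem mover_gen {z : A9} (hz : z * z * z = 1) (v : V) : D.σ z v + v ∈ D.L z := by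
  show D.toAct.F z (D.σ z v + v) = D.σ z v + v
  have e : D.σ z (D.σ z (D.σ z v)) = v := by
    rw [← Equiv.Perm.mul_apply, ← Equiv.Perm.mul_apply, ← map_mul, ← map_mul, hz, map_one]; rfl
  show D.σ z v + v + (D.σ z v + v + D.σ z (D.σ z v + v) + D.σ z (D.σ z (D.σ z v + v))) = _
  simp only [D.add, e]
  calc _ = (D.σ z (D.σ z v) + D.σ z (D.σ z v)) + ((D.σ z v + v) + (D.σ z v + v)) + (D.σ z v + v) := by abel
    _ = _ := by rw [D.two, D.two, zero_add, zero_add]

theorem mover_prod (l : List Bool) :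
    (l.map fun b => if b then cy 2 3 4 else cy 0 1 2).prod ∈ D.mover := by
  induction l with
  | nil => simp [one_mem]
  | cons b l ih =>
    rw [List.map_cons, List.prod_cons]
    refine mul_mem (fun v => ?_) ih
    cases b
    · exact ⟨_, D.mover_gen (by decide +kernel) v, 0, map_zero _, add_zero _⟩
    · exact ⟨0, map_zero _, _, D.mover_gen (by decide +kernel) v, zero_add _⟩

theorem L_le_of_mover {z : A9} (hz : z ∈ D.mover) : D.L z ⊆ D.sum2 (cy 0 1 2) (cy 2 3 4) := by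
  intro v hv
  have h1 := hz (D.σ z v)
  have h2 : v = D.σ z (D.σ z v) + D.σ z v := by
    have hv' : v + (v + D.σ z v + D.σ z (D.σ z v)) = v := hv
    rw [← add_assoc, ← add_assoc, D.two, zero_add, add_comm] at hv'
    exact hv'.symm
  rwa [← h2] at h1

theorem card_sum2 (g h : A9) : Nat.card ↥(D.sum2 g h) ≤ Nat.card ↥(D.L g) * Nat.card ↥(D.L h) := by
  haveI := D.finite
  rw [← Nat.card_prod]
  refine Nat.card_le_card_of_surjective (fun p => ⟨(p.1 : V) + p.2, _, p.1.2, _, p.2.2, rfl⟩) ?_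
  rintro ⟨_, a, ha, b, hb, rfl⟩
  exact ⟨(⟨a, ha⟩, ⟨b, hb⟩), rfl⟩

theorem card_13 : Nat.card ↥(D.L (cy 0 1 3)) = 4 := by
  obtain ⟨g, hg⟩ := exists_el [0, 1, 3, 2, 5, 4, 6, 7, 8] (by decide +kernel)
  rw [← D.card_conj (g := g) (k := cy 0 1 3) (h := cy 0 1 2) (by rw [cy_conj' hg]; rfl), D.card_x]

theorem card_234 : Nat.card ↥(D.L (cy 2 3 4)) = 4 := by
  obtain ⟨g, hg⟩ := exists_el [2, 3, 4, 0, 1, 5, 6, 7, 8] (by decide +kernel)
  rw [← D.card_conj (g := g) (k := cy 2 3 4) (h := cy 0 1 2) (by rw [cy_conj' hg]; rfl), D.card_x]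

/-- Two planes with a common pair are not complementary. -/
theorem exists_common : ∃ v : V, v ≠ 0 ∧ v ∈ D.L (cy 0 1 2) ∧ v ∈ D.L (cy 0 1 3) := by
  classical
  haveI := D.finite
  by_contra hno
  push Not at hno
  have hzero : ∀ v, v ∈ D.L (cy 0 1 2) → v ∈ D.L (cy 0 1 3) → v = 0 := fun v h1 h2 =>
    by_contra fun h => hno v h h1 h2
  have m13 : cy 0 1 3 ∈ D.mover := by
    have h := D.mover_prod [true, false, true, true]
    rwa [show ([true, false, true, true].map fun b => if b then cy 2 3 4 else cy 0 1 2).prod = cy 0 1 3 by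
      decide +kernel] at h
  have m34 : cy 0 3 4 ∈ D.mover := by
    have h := D.mover_prod [false, true, false, false]
    rwa [show ([false, true, false, false].map fun b => if b then cy 2 3 4 else cy 0 1 2).prod = cy 0 3 4 by
      decide +kernel] at h
  have m123 : cy 1 2 3 ∈ D.mover := by
    have h := D.mover_prod [true, false, false, true, true, false]
    rwa [show ([true, false, false, true, true, false].map fun b => if b then cy 2 3 4 else cy 0 1 2).prod
      = cy 1 2 3 by decide +kernel] at h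
  have m234 : cy 2 3 4 ∈ D.mover := by
    have h := D.mover_prod [true]
    rwa [show ([true].map fun b => if b then cy 2 3 4 else cy 0 1 2).prod = cy 2 3 4 by decide +kernel] at h
  have hsub : D.sum2 (cy 0 1 2) (cy 0 1 3) ⊆ D.sum2 (cy 0 1 2) (cy 2 3 4) := by
    rintro _ ⟨a, ha, b, hb, rfl⟩
    exact D.sum2_add ⟨a, ha, 0, map_zero _, add_zero a⟩ (D.L_le_of_mover m13 hb)
  have hcard : Nat.card ↥(D.sum2 (cy 0 1 2) (cy 0 1 3)) = 16 := by
    refine le_antisymm ((D.card_sum2 _ _).trans (by rw [D.card_x, D.card_13])) ?_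
    rw [show (16 : ℕ) = Nat.card (↥(D.L (cy 0 1 2)) × ↥(D.L (cy 0 1 3))) by
      rw [Nat.card_prod, D.card_x, D.card_13]]
    refine Nat.card_le_card_of_injective (fun p => ⟨(p.1 : V) + p.2, _, p.1.2, _, p.2.2, rfl⟩) ?_
    rintro ⟨a, b⟩ ⟨a', b'⟩ h
    have h' : (a : V) + b = a' + b' := congrArg Subtype.val h
    have e : (a : V) + a' = b + b' := by
      calc (a : V) + a' = a + b + (b + a') := by
            rw [add_assoc (a : V) b, ← add_assoc (b : V) b, D.two, zero_add]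
        _ = _ := by
          rw [h']
          calc (a' : V) + b' + (b + a') = (a' + a') + ((b : V) + b') := by abel
            _ = _ := by rw [D.two, zero_add]
    have h0 := hzero _ (D.L_add a.2 a'.2) (e ▸ D.L_add b.2 b'.2)
    have cancel : ∀ u w : V, u + w = 0 → u = w := fun u w h => by
      rw [← add_zero u, ← D.two w, ← add_assoc, h, zero_add]
    exact Prod.ext (Subtype.ext (cancel _ _ h0)) (Subtype.ext (cancel _ _ (e ▸ h0)))
  have heq : D.sum2 (cy 0 1 2) (cy 0 1 3) = D.sum2 (cy 0 1 2) (cy 2 3 4) := by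
    refine Set.eq_of_subset_of_ncard_le hsub ?_
    rw [← Nat.card_coe_set_eq, ← Nat.card_coe_set_eq, hcard]
    exact (D.card_sum2 _ _).trans (by rw [D.card_x, D.card_234])
  -- transport
  have key : ∀ {g z a b c : A9}, g * cy 0 1 2 * g⁻¹ = a → g * cy 0 1 3 * g⁻¹ = b → g * z * g⁻¹ = c →
      z ∈ D.mover → D.L c ⊆ D.sum2 a b := by
    intro g z a b c ea eb ec hz w hw
    have h := D.L_conj (g := g⁻¹) (k := z) (by rw [← ec]; group) hw
    obtain ⟨p, hp, q, hq, hpq⟩ := heq.symm ▸ D.L_le_of_mover hz h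
    refine ⟨_, D.L_conj ea hp, _, D.L_conj eb hq, ?_⟩
    show D.σ g p + D.σ g q = w
    rw [← D.add, show p + q = D.σ g⁻¹ w from hpq, ← Equiv.Perm.mul_apply, ← map_mul, mul_inv_cancel, map_one]
    rfl
  obtain ⟨g1, h1⟩ := exists_el [0, 1, 2, 3, 5, 6, 4, 7, 8] (by decide +kernel)
  obtain ⟨g2, h2⟩ := exists_el [0, 1, 2, 3, 6, 4, 5, 7, 8] (by decide +kernel)
  obtain ⟨g3, h3⟩ := exists_el [0, 1, 2, 3, 7, 4, 6, 5, 8] (by decide +kernel)
  obtain ⟨g4, h4⟩ := exists_el [0, 3, 4, 5, 1, 2, 6, 7, 8] (by decide +kernel)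
  obtain ⟨g5, h5⟩ := exists_el [0, 3, 6, 7, 8, 1, 2, 4, 5] (by decide +kernel)
  set W := D.sum2 (cy 0 1 2) (cy 0 1 3) with hW
  have L34 : D.L (cy 0 3 4) ⊆ W := heq.symm ▸ D.L_le_of_mover m34
  have L35 : D.L (cy 0 3 5) ⊆ W :=
    key (by rw [cy_conj' h1]; rfl) (by rw [cy_conj' h1]; rfl) (by rw [cy_conj' h1]; rfl) m34
  have L36 : D.L (cy 0 3 6) ⊆ W :=
    key (by rw [cy_conj' h2]; rfl) (by rw [cy_conj' h2]; rfl) (by rw [cy_conj' h2]; rfl) m34
  have L37 : D.L (cy 0 3 7) ⊆ W :=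
    key (by rw [cy_conj' h3]; rfl) (by rw [cy_conj' h3]; rfl) (by rw [cy_conj' h3]; rfl) m34
  have both : ∀ {a b : A9}, D.L a ⊆ W → D.L b ⊆ W → D.sum2 a b ⊆ W := by
    rintro a b ha hb _ ⟨p, hp, q, hq, rfl⟩
    exact D.sum2_add (ha hp) (hb hq)
  have L345 : D.L (cy 3 4 5) ⊆ W := Set.Subset.trans
    (key (by rw [cy_conj' h4]; rfl) (by rw [cy_conj' h4]; rfl) (by rw [cy_conj' h4]; rfl) m123) (both L34 L35)
  have L678 : D.L (cy 6 7 8) ⊆ W := Set.Subset.trans
    (key (by rw [cy_conj' h5]; rfl) (by rw [cy_conj' h5]; rfl) (by rw [cy_conj' h5]; rfl) m234) (both L36 L37)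
  have L12 : D.L (cy 0 1 2) ⊆ W := fun a ha => ⟨a, ha, 0, map_zero _, add_zero a⟩
  -- three independent planes inside a space of order sixteen
  obtain ⟨r1, hr1⟩ := exists_el [3, 4, 5, 6, 7, 8, 0, 1, 2] (by decide +kernel)
  obtain ⟨r2, hr2⟩ := exists_el [6, 7, 8, 0, 1, 2, 3, 4, 5] (by decide +kernel)
  have oxy := D.planes.2
  have oyw : D.toAct.F (cy 3 4 5) * D.toAct.F (cy 6 7 8) = 0 :=
    D.orth_conj (g := r1) (by rw [cy_conj' hr1]; rfl) (by rw [cy_conj' hr1]; rfl)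
  have owx : D.toAct.F (cy 6 7 8) * D.toAct.F (cy 0 1 2) = 0 :=
    D.orth_conj (g := r2) (by rw [cy_conj' hr2]; rfl) (by rw [cy_conj' hr2]; rfl)
  have oxw : D.toAct.F (cy 0 1 2) * D.toAct.F (cy 6 7 8) = 0 := by
    rw [(D.toAct.F_comm tri.xw).eq, owx]
  have oyx : D.toAct.F (cy 3 4 5) * D.toAct.F (cy 0 1 2) = 0 := by
    rw [(D.toAct.F_comm tri.xy).symm.eq, oxy]
  have owy : D.toAct.F (cy 6 7 8) * D.toAct.F (cy 3 4 5) = 0 := by
    rw [(D.toAct.F_comm tri.yw).symm.eq, oyw]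
  have z0 : ∀ {a b : A9} {v : V}, D.toAct.F a * D.toAct.F b = 0 → v ∈ D.L b → D.toAct.F a v = 0 :=
    fun {a b v} h hv => by rw [← hv]; exact DFunLike.congr_fun h v
  have h64 : Nat.card (↥(D.L (cy 0 1 2)) × ↥(D.L (cy 3 4 5)) × ↥(D.L (cy 6 7 8))) ≤ Nat.card ↥W := by
    refine Nat.card_le_card_of_injective (fun p => ⟨(p.1 : V) + (p.2.1 + p.2.2),
      D.sum2_add (L12 p.1.2) (D.sum2_add (L345 p.2.1.2) (L678 p.2.2.2))⟩) ?_
    rintro ⟨a, b, c⟩ ⟨a', b', c'⟩ h
    have h' : (a : V) + (b + c) = a' + (b' + c') := congrArg Subtype.val h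
    have ha := congrArg (D.toAct.F (cy 0 1 2)) h'
    have hb := congrArg (D.toAct.F (cy 3 4 5)) h'
    have hc := congrArg (D.toAct.F (cy 6 7 8)) h'
    simp only [map_add, a.2.out, a'.2.out, b.2.out, b'.2.out, c.2.out, c'.2.out, z0 oxy b.2, z0 oxy b'.2,
      z0 oxw c.2, z0 oxw c'.2, z0 oyx a.2, z0 oyx a'.2, z0 oyw c.2, z0 oyw c'.2, z0 owx a.2, z0 owx a'.2,
      z0 owy b.2, z0 owy b'.2, add_zero, zero_add] at ha hb hc
    exact Prod.ext (Subtype.ext ha) (Prod.ext (Subtype.ext hb) (Subtype.ext hc))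
  have c345 : Nat.card ↥(D.L (cy 3 4 5)) = 4 := by
    rw [← D.card_conj (g := r1) (h := cy 0 1 2) (by rw [cy_conj' hr1]; rfl), D.card_x]
  have c678 : Nat.card ↥(D.L (cy 6 7 8)) = 4 := by
    rw [← D.card_conj (g := r2) (h := cy 0 1 2) (by rw [cy_conj' hr2]; rfl), D.card_x]
  rw [Nat.card_prod, Nat.card_prod, D.card_x, c345, c678, hcard] at h64
  norm_num at h64

/-- The planes are distinct. -/
theorem common_unique {v w : V} (hv0 : v ≠ 0) (hv : v ∈ D.L (cy 0 1 2)) (hv' : v ∈ D.L (cy 0 1 3))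
    (hw : w ∈ D.L (cy 0 1 2)) (hw' : w ∈ D.L (cy 0 1 3)) : w = 0 ∨ w = v := by
  classical
  haveI := D.finite
  by_contra hne
  rw [not_or] at hne
  have heq : D.L (cy 0 1 2) = D.L (cy 0 1 3) := by
    have hs : ∀ S : Set V, 0 ∈ S → v ∈ S → w ∈ S → v + w ∈ S → S.ncard = 4 → S = {0, v, w, v + w} := by
      intro S h0 h1 h2 h3 h4
      refine (Set.eq_of_subset_of_ncard_le (by simp [Set.insert_subset_iff, h0, h1, h2, h3]) ?_).symm
      rw [h4, Set.ncard_insert_of_notMem, Set.ncard_insert_of_notMem, Set.ncard_insert_of_notMem,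
        Set.ncard_singleton]
      · simpa using fun h : w = v + w => hv0 (by simpa using h)
      · simp only [Set.mem_insert_iff, Set.mem_singleton_iff, not_or]
        exact ⟨fun h => hne.2 h.symm, fun h => hne.1 (by simpa using h)⟩
      · simp only [Set.mem_insert_iff, Set.mem_singleton_iff, not_or]
        exact ⟨hv0.symm, hne.1 ∘ Eq.symm, fun h => hne.2 (by
          rw [← add_zero w, ← D.two v, ← add_assoc, add_comm w v, ← h, zero_add])⟩
    rw [hs (D.L (cy 0 1 2)) (map_zero _) hv hw (D.L_add hv hw) ((Nat.card_coe_set_eq _).symm.trans D.card_x),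
      hs (D.L (cy 0 1 3)) (map_zero _) hv' hw' (D.L_add hv' hw') ((Nat.card_coe_set_eq _).symm.trans D.card_13)]
  have move : ∀ {g a b : A9}, g * cy 0 1 2 * g⁻¹ = a → g * cy 0 1 3 * g⁻¹ = b → D.L a ⊆ D.L b := by
    intro g a b ea eb u hu
    have h := D.L_conj (g := g⁻¹) (k := cy 0 1 2) (by rw [← ea]; group) hu
    have h' := D.L_conj eb (heq ▸ h)
    rwa [← Equiv.Perm.mul_apply, ← map_mul, mul_inv_cancel, map_one] at h'
  obtain ⟨g1, h1⟩ := exists_el [3, 0, 1, 4, 2, 5, 6, 7, 8] (by decide +kernel)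
  obtain ⟨g2, h2⟩ := exists_el [3, 4, 0, 5, 1, 2, 6, 7, 8] (by decide +kernel)
  have s1 : D.L (cy 0 1 3) ⊆ D.L (cy 3 0 4) :=
    move (g := g1) (by rw [cy_conj' h1]; decide +kernel) (by rw [cy_conj' h1]; decide +kernel)
  have s2 : D.L (cy 0 3 4) ⊆ D.L (cy 3 4 5) :=
    move (g := g2) (by rw [cy_conj' h2]; decide +kernel) (by rw [cy_conj' h2]; decide +kernel)
  have e304 : D.L (cy 3 0 4) = D.L (cy 0 3 4) := by
    rw [show cy 3 0 4 = (cy 0 3 4)⁻¹ by decide +kernel, D.L_inv (by decide +kernel)]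
  have hvy := s2 (e304 ▸ s1 hv')
  have h0 := DFunLike.congr_fun D.planes.2 v
  rw [Act.mul_apply, show D.toAct.F (cy 3 4 5) v = v from hvy, show D.toAct.F (cy 0 1 2) v = v from hv] at h0
  exact hv0 h0

end Fixing

end CfsgLib.ThType.Perm
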