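import Cfsg.Agent.Lib.ThType.Perm.Planes

/-!
# The deleted permutation module

The vectors attached to the pairs give coordinates: bit `i` of a code stands for the pair of `0` and `i + 1`.
-/

set_option autoImplicit false
set_option linter.unusedSectionVars false
set_option maxRecDepth 100000

namespace CfsgLib.ThType.Perm

open Equiv CfsgLib.ThType.Nine

/-- The code of a point. -/
def bitP : ℕ → ℕ
  | 0 => 0
  | i + 1 => 2 ^ i

/-- The code of a pair. -/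
def pc (a b : ℕ) : ℕ := bitP a ^^^ bitP b

/-- The action of a list of values on codes. -/
def actc (L : List ℕ) (u : ℕ) : ℕ :=
  (List.range 8).foldr (fun i acc => if Nat.testBit u i then pc (L.getD 0 0) (L.getD (i + 1) 0) ^^^ acc else acc) 0

/-- The number of bits. -/
def bits8 (u : ℕ) : ℕ := (List.range 8).countP fun i => Nat.testBit u i

/-- The quadratic form on codes. -/
def qp (u : ℕ) : Bool := bits8 u % 4 == 1 || bits8 u % 4 == 2

/-- The movers of the pair `2, 3`. -/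
def gY : ℕ → A9
  | 0 => cy 2 4 5
  | 1 => cy 2 4 6
  | 2 => cy 2 4 7
  | 3 => cy 2 4 8
  | 4 => cy 3 4 5
  | 5 => cy 3 4 6
  | 6 => cy 3 4 7
  | _ => cy 3 4 8

/-- Words moving `2, 3` to every pair of points from `2` to `8`. -/
def tblY : List (ℕ × ℕ × List ℕ) :=
  [(2, 3, []), (2, 4, [4]), (2, 5, [4, 4]), (2, 6, [5, 4]), (2, 7, [6, 4]), (2, 8, [7, 4]), (3, 2, [0, 4, 4, 0]),
   (3, 4, [4, 0, 0]), (3, 5, [4, 4, 0]), (3, 6, [5, 5, 0]), (3, 7, [6, 6, 0]), (3, 8, [7, 7, 0]), (4, 2, [0, 4, 4]),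
   (4, 3, [0]), (4, 5, [0, 4]), (4, 6, [1, 4]), (4, 7, [2, 4]), (4, 8, [3, 4]), (5, 2, [0, 0, 4]), (5, 3, [0, 0]),
   (5, 4, [4, 0]), (5, 6, [1, 4, 0]), (5, 7, [2, 4, 0]), (5, 8, [3, 4, 0]), (6, 2, [1, 1, 4]), (6, 3, [1, 0]),
   (6, 4, [5, 0]), (6, 5, [0, 5, 0]), (6, 7, [2, 5, 0]), (6, 8, [3, 5, 0]), (7, 2, [2, 2, 4]), (7, 3, [2, 0]),
   (7, 4, [6, 0]), (7, 5, [0, 6, 0]), (7, 6, [1, 6, 0]), (7, 8, [3, 6, 0]), (8, 2, [3, 3, 4]), (8, 3, [3, 0]),
   (8, 4, [7, 0]), (8, 5, [0, 7, 0]), (8, 6, [1, 7, 0]), (8, 7, [2, 7, 0])]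

theorem tblY_ok : ∀ c d : Fin 9, 2 ≤ (c : ℕ) → 2 ≤ (d : ℕ) → c ≠ d → ∃ e ∈ tblY,
    e.1 = (c : ℕ) ∧ e.2.1 = (d : ℕ) ∧ ((e.2.2.map gY).prod : A9).1 2 = c ∧ ((e.2.2.map gY).prod : A9).1 3 = d := by
  decide +kernel

/-- A list with three given first values, of even parity. -/
def pre3 (a b c : ℕ) : List ℕ :=
  let r := (List.range 9).filter fun i => i != a && i != b && i != c
  let L := a :: b :: c :: r
  if evenL L then L else a :: b :: c :: (r.take 4 ++ [r.getD 5 0, r.getD 4 0])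

theorem pre3_ok : ∀ a b c : Fin 9, a ≠ b → b ≠ c → a ≠ c → (sorts (pre3 a b c) && evenL (pre3 a b c)) = true ∧
    (pre3 a b c).getD 0 0 = (a : ℕ) ∧ (pre3 a b c).getD 1 0 = (b : ℕ) ∧ (pre3 a b c).getD 2 0 = (c : ℕ) := by
  decide +kernel

theorem exists_three {a b c : Fin 9} (h1 : a ≠ b) (h2 : b ≠ c) (h3 : a ≠ c) :
    ∃ g : A9, (g : P9) 0 = a ∧ (g : P9) 1 = b ∧ (g : P9) 2 = c := by
  obtain ⟨h, e0, e1, e2⟩ := pre3_ok a b c h1 h2 h3
  obtain ⟨g, hg⟩ := exists_el _ h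
  refine ⟨g, Fin.ext ?_, Fin.ext ?_, Fin.ext ?_⟩
  · rw [← e0, ← hg, ← enc_getElem (g : P9) 0]; rfl
  · rw [← e1, ← hg, ← enc_getElem (g : P9) 1]; rfl
  · rw [← e2, ← hg, ← enc_getElem (g : P9) 2]; rfl

theorem exists_two {a b : Fin 9} (h : a ≠ b) : ∃ g : A9, (g : P9) 0 = a ∧ (g : P9) 1 = b := by
  obtain ⟨c, h1, h2⟩ : ∃ c : Fin 9, b ≠ c ∧ a ≠ c := by revert a b; decide +kernel
  obtain ⟨g, g0, g1, -⟩ := exists_three h h1 h2
  exact ⟨g, g0, g1⟩

namespace Fixing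

variable {V : Type*} [AddCommGroup V] (D : Fixing V)

/-- The vector of the pair `0, 1`. -/
noncomputable def v01 : V := D.exists_common.choose

theorem v01_spec : D.v01 ≠ 0 ∧ D.v01 ∈ D.L (cy 0 1 2) ∧ D.v01 ∈ D.L (cy 0 1 3) := D.exists_common.choose_spec

theorem act_ne (g : A9) {v : V} (h : v ≠ 0) : D.σ g v ≠ 0 := fun e =>
  h ((D.σ g).injective (e.trans (map_zero (D.toAct.a g)).symm))

theorem pres {g : A9} (e1 : g * cy 0 1 2 * g⁻¹ = cy 0 1 2 ∨ g * cy 0 1 2 * g⁻¹ = cy 1 0 2)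
    (e2 : g * cy 0 1 3 * g⁻¹ = cy 0 1 3 ∨ g * cy 0 1 3 * g⁻¹ = cy 1 0 3) : D.σ g D.v01 = D.v01 := by
  obtain ⟨h0, hx, hc⟩ := D.v01_spec
  have fx : ∀ k, (k = cy 0 1 2 ∨ k = cy 1 0 2) → D.L k = D.L (cy 0 1 2) := by
    rintro k (rfl | rfl)
    · rfl
    · rw [show cy 1 0 2 = (cy 0 1 2)⁻¹ by decide +kernel, D.L_inv (by decide +kernel)]
  have fc : ∀ k, (k = cy 0 1 3 ∨ k = cy 1 0 3) → D.L k = D.L (cy 0 1 3) := by
    rintro k (rfl | rfl)
    · rfl
    · rw [show cy 1 0 3 = (cy 0 1 3)⁻¹ by decide +kernel, D.L_inv (by decide +kernel)]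
  refine (D.common_unique h0 hx hc ?_ ?_).resolve_left (D.act_ne g h0)
  · rw [← fx _ e1]; exact D.L_conj rfl hx
  · rw [← fc _ e2]; exact D.L_conj rfl hc

theorem kill_of_orth {z k : A9} (h : D.toAct.F z * D.toAct.F k = 0) (hz : z * z * z = 1) {v : V}
    (hv : v ∈ D.L k) : D.σ z v = v := by
  have h0 : D.toAct.F z v = 0 := by rw [← show D.toAct.F k v = v from hv]; exact DFunLike.congr_fun h v
  have h1 : v + (v + D.σ z v + D.σ z (D.σ z v)) = 0 := h0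
  rw [← add_assoc, ← add_assoc, D.two, zero_add] at h1
  have e2 : D.σ z (D.σ z v) = D.σ z v := by
    rw [← add_left_cancel_iff (a := D.σ z v), h1, D.two]
  exact (D.σ z).injective e2

theorem gY_fix (i : ℕ) : D.σ (gY i) D.v01 = D.v01 := by
  obtain ⟨-, hx, hc⟩ := D.v01_spec
  have base : ∀ (L : List ℕ) (z : A9), (sorts L && evenL L) = true → z * z * z = 1 →
      (cy (Fin.ofNat 9 (L.getD 3 0)) (Fin.ofNat 9 (L.getD 4 0)) (Fin.ofNat 9 (L.getD 5 0)) = z) →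
      (cy (Fin.ofNat 9 (L.getD 0 0)) (Fin.ofNat 9 (L.getD 1 0)) (Fin.ofNat 9 (L.getD 2 0)) = cy 0 1 2 ∨
        cy (Fin.ofNat 9 (L.getD 0 0)) (Fin.ofNat 9 (L.getD 1 0)) (Fin.ofNat 9 (L.getD 2 0)) = cy 0 1 3) →
      D.σ z D.v01 = D.v01 := by
    intro L z hL hz hb ha
    obtain ⟨g, hg⟩ := exists_el L hL
    have eb : g * cy 3 4 5 * g⁻¹ = z := (cy_conj' hg 3 4 5).trans hb
    have hcom : Commute (g * cy 0 1 2 * g⁻¹) (g * cy 3 4 5 * g⁻¹) := (Commute.conj_iff g).2 tri.xy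
    rw [eb] at hcom
    rcases ha with ha | ha
    · have ea : g * cy 0 1 2 * g⁻¹ = cy 0 1 2 := (cy_conj' hg 0 1 2).trans ha
      exact D.kill_of_orth (D.orth_conj' ea eb (ea ▸ hcom)) hz hx
    · have ea : g * cy 0 1 2 * g⁻¹ = cy 0 1 3 := (cy_conj' hg 0 1 2).trans ha
      exact D.kill_of_orth (D.orth_conj' ea eb (ea ▸ hcom)) hz hc
  match i with
  | 0 => exact base [0, 1, 3, 2, 4, 5, 7, 6, 8] _ (by decide +kernel) (by decide +kernel) rfl (.inr rfl)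
  | 1 => exact base [0, 1, 3, 2, 4, 6, 5, 7, 8] _ (by decide +kernel) (by decide +kernel) rfl (.inr rfl)
  | 2 => exact base [0, 1, 3, 2, 4, 7, 5, 8, 6] _ (by decide +kernel) (by decide +kernel) rfl (.inr rfl)
  | 3 => exact base [0, 1, 3, 2, 4, 8, 5, 6, 7] _ (by decide +kernel) (by decide +kernel) rfl (.inr rfl)
  | 4 => exact base [0, 1, 2, 3, 4, 5, 6, 7, 8] _ (by decide +kernel) (by decide +kernel) rfl (.inl rfl)
  | 5 => exact base [0, 1, 2, 3, 4, 6, 5, 8, 7] _ (by decide +kernel) (by decide +kernel) rfl (.inl rfl)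
  | 6 => exact base [0, 1, 2, 3, 4, 7, 5, 6, 8] _ (by decide +kernel) (by decide +kernel) rfl (.inl rfl)
  | _ + 7 => exact base [0, 1, 2, 3, 4, 8, 5, 7, 6] (cy 3 4 8) (by decide +kernel) (by decide +kernel) rfl (.inl rfl)

/-- The setwise stabiliser of the pair fixes the vector. -/
theorem stab {g : A9} (h : ((g : P9) 0 = 0 ∧ (g : P9) 1 = 1) ∨ ((g : P9) 0 = 1 ∧ (g : P9) 1 = 0)) :
    D.σ g D.v01 = D.v01 := by
  have hc : 2 ≤ ((g : P9) 2 : ℕ) := by
    have h1 : (g : P9) 2 ≠ (g : P9) 0 := (g : P9).injective.ne (by decide)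
    have h2 : (g : P9) 2 ≠ (g : P9) 1 := (g : P9).injective.ne (by decide)
    rcases h with ⟨a, b⟩ | ⟨a, b⟩ <;> rw [a] at h1 <;> rw [b] at h2 <;> revert h1 h2 <;>
      generalize (g : P9) 2 = w <;> revert w <;> decide
  have hd : 2 ≤ ((g : P9) 3 : ℕ) := by
    have h1 : (g : P9) 3 ≠ (g : P9) 0 := (g : P9).injective.ne (by decide)
    have h2 : (g : P9) 3 ≠ (g : P9) 1 := (g : P9).injective.ne (by decide)
    rcases h with ⟨a, b⟩ | ⟨a, b⟩ <;> rw [a] at h1 <;> rw [b] at h2 <;> revert h1 h2 <;>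
      generalize (g : P9) 3 = w <;> revert w <;> decide
  obtain ⟨e, -, -, -, k2, k3⟩ := tblY_ok _ _ hc hd ((g : P9).injective.ne (by decide))
  set k : A9 := (e.2.2.map gY).prod with hk
  have k01 : (k : P9) 0 = 0 ∧ (k : P9) 1 = 1 := by
    rw [hk]
    induction e.2.2 with
    | nil => exact ⟨rfl, rfl⟩
    | cons i l ih =>
      have hi : (gY i : P9) 0 = 0 ∧ (gY i : P9) 1 = 1 := by
        match i with
        | 0 | 1 | 2 | 3 | 4 | 5 | 6 => decide +kernel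
        | _ + 7 => exact ⟨rfl, rfl⟩
      rw [List.map_cons, List.prod_cons]
      exact ⟨by show (gY i : P9) (((l.map gY).prod : A9).1 0) = 0; rw [ih.1, hi.1],
        by show (gY i : P9) (((l.map gY).prod : A9).1 1) = 1; rw [ih.2, hi.2]⟩
  have kv : D.σ k D.v01 = D.v01 := by
    rw [hk]
    induction e.2.2 with
    | nil => rw [List.map_nil, List.prod_nil, map_one]; rfl
    | cons i l ih => rw [List.map_cons, List.prod_cons, map_mul, Equiv.Perm.mul_apply, ih, D.gY_fix]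
  set m : A9 := k⁻¹ * g with hm
  have hinv : ∀ {i j : Fin 9}, (k : P9) i = j → (k : P9)⁻¹ j = i := fun h => Equiv.Perm.inv_eq_iff_eq.2 h.symm
  have m23 : (m : P9) 2 = 2 ∧ (m : P9) 3 = 3 := ⟨hinv k2, hinv k3⟩
  have mv : D.σ m D.v01 = D.v01 := by
    rcases h with ⟨a, b⟩ | ⟨a, b⟩
    · have m0 : (m : P9) 0 = 0 := (congrArg (fun i => (k : P9)⁻¹ i) a).trans (hinv k01.1)
      have m1 : (m : P9) 1 = 1 := (congrArg (fun i => (k : P9)⁻¹ i) b).trans (hinv k01.2)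
      exact D.pres (.inl (by rw [cy_conj, m0, m1, m23.1])) (.inl (by rw [cy_conj, m0, m1, m23.2]))
    · have m0 : (m : P9) 0 = 1 := (congrArg (fun i => (k : P9)⁻¹ i) a).trans (hinv k01.2)
      have m1 : (m : P9) 1 = 0 := (congrArg (fun i => (k : P9)⁻¹ i) b).trans (hinv k01.1)
      exact D.pres (.inr (by rw [cy_conj, m0, m1, m23.1])) (.inr (by rw [cy_conj, m0, m1, m23.2]))
  rw [show g = k * m by rw [hm, mul_inv_cancel_left], map_mul, Equiv.Perm.mul_apply, mv, kv]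

open scoped _root_.Classical in
/-- The vector of a pair. -/
noncomputable def p (a b : Fin 9) : V := if h : a ≠ b then D.σ (exists_two h).choose D.v01 else 0

theorem p_self (a : Fin 9) : D.p a a = 0 := dif_neg (not_not.2 rfl)

theorem p_of {g : A9} {a b : Fin 9} (h : ((g : P9) 0 = a ∧ (g : P9) 1 = b) ∨ ((g : P9) 0 = b ∧ (g : P9) 1 = a)) :
    D.p a b = D.σ g D.v01 := by
  have hab : a ≠ b := by
    rcases h with ⟨h0, h1⟩ | ⟨h0, h1⟩ <;> rw [← h0, ← h1] <;> exact (g : P9).injective.ne (by decide)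
  rw [p, dif_pos hab]
  obtain ⟨e0, e1⟩ := (exists_two hab).choose_spec
  set k := (exists_two hab).choose with hk
  have := D.stab (g := g⁻¹ * k) (by
    rcases h with ⟨h0, h1⟩ | ⟨h0, h1⟩
    · exact .inl ⟨by show (g : P9)⁻¹ ((k : P9) 0) = 0; rw [e0, ← h0]; exact Equiv.symm_apply_apply _ _,
        by show (g : P9)⁻¹ ((k : P9) 1) = 1; rw [e1, ← h1]; exact Equiv.symm_apply_apply _ _⟩
    · exact .inr ⟨by show (g : P9)⁻¹ ((k : P9) 0) = 1; rw [e0, ← h1]; exact Equiv.symm_apply_apply _ _,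
        by show (g : P9)⁻¹ ((k : P9) 1) = 0; rw [e1, ← h0]; exact Equiv.symm_apply_apply _ _⟩)
  conv_lhs => rw [show k = g * (g⁻¹ * k) by group, map_mul, Equiv.Perm.mul_apply, this]

theorem p_comm (a b : Fin 9) : D.p a b = D.p b a := by
  rcases eq_or_ne a b with rfl | h
  · rfl
  · obtain ⟨g, g0, g1⟩ := exists_two h
    rw [D.p_of (.inl ⟨g0, g1⟩), D.p_of (.inr ⟨g0, g1⟩)]

theorem p_equi (g : A9) (a b : Fin 9) : D.σ g (D.p a b) = D.p ((g : P9) a) ((g : P9) b) := by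
  rcases eq_or_ne a b with rfl | h
  · rw [D.p_self, D.p_self]; exact map_zero (D.toAct.a g)
  · obtain ⟨k, k0, k1⟩ := exists_two h
    rw [D.p_of (.inl ⟨k0, k1⟩), D.p_of (g := g * k) (.inl ⟨congrArg (⇑(g : P9)) k0, congrArg (⇑(g : P9)) k1⟩), map_mul]
    rfl

theorem p_ne {a b : Fin 9} (h : a ≠ b) : D.p a b ≠ 0 := by
  obtain ⟨k, k0, k1⟩ := exists_two h
  rw [D.p_of (.inl ⟨k0, k1⟩)]
  exact D.act_ne k D.v01_spec.1

theorem p01 : D.p 0 1 = D.v01 := by rw [D.p_of (g := 1) (a := 0) (b := 1) (.inl ⟨rfl, rfl⟩), map_one]; rfl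

theorem p_add (a b c : Fin 9) : D.p a b + D.p b c = D.p a c := by
  rcases eq_or_ne a b with rfl | hab
  · rw [D.p_self, zero_add]
  rcases eq_or_ne b c with rfl | hbc
  · rw [D.p_self, add_zero]
  rcases eq_or_ne a c with rfl | hac
  · rw [D.p_comm b a, D.two, D.p_self]
  obtain ⟨g, g0, g1, g2⟩ := exists_three hab hbc hac
  have h012 : D.p 0 1 + D.p 1 2 = D.p 0 2 := by
    have e1 : D.p 1 2 = D.σ (cy 0 1 2) (D.p 0 1) := by rw [D.p_equi]; rfl
    have e2 : D.p 2 0 = D.σ (cy 0 1 2) (D.σ (cy 0 1 2) (D.p 0 1)) := by rw [D.p_equi, D.p_equi]; rfl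
    have h : D.p 0 1 + (D.p 0 1 + D.p 1 2 + D.p 2 0) = D.p 0 1 := by
      rw [e1, e2, D.p01]; exact D.v01_spec.2.1
    have h' : D.p 0 1 + D.p 1 2 + D.p 2 0 = 0 := left_eq_add.1 h.symm
    rw [D.p_comm 0 2, ← add_zero (D.p 0 1 + D.p 1 2), ← D.two (D.p 2 0), ← add_assoc, h', zero_add]
  rw [← g0, ← g1, ← g2, ← D.p_equi, ← D.p_equi, ← D.p_equi, ← D.add, h012]

/-- The vector of a code. -/
noncomputable def c (u : ℕ) : V :=
  ((List.range 8).map fun i => if Nat.testBit u i then D.p 0 (Fin.ofNat 9 (i + 1)) else 0).sum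

theorem c_zero : D.c 0 = 0 := by simp [c]

theorem c_xor (u w : ℕ) : D.c (u ^^^ w) = D.c u + D.c w := by
  rw [c, c, c, ← List.sum_map_add]
  congr 1
  refine List.map_congr_left fun i _ => ?_
  rw [Nat.testBit_xor]
  cases Nat.testBit u i <;> cases Nat.testBit w i <;> simp [D.two]

theorem c_bitP : ∀ a : Fin 9, D.c (bitP a) = D.p 0 a := by
  intro a
  fin_cases a <;> simp [c, bitP, List.range_succ, D.p_self, Nat.testBit] <;> rfl

theorem c_pc (a b : Fin 9) : D.c (pc a b) = D.p a b := by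
  rw [pc, D.c_xor, D.c_bitP, D.c_bitP, D.p_comm 0 a, D.p_add]

/-- The action on codes. -/
theorem c_act (g : A9) (u : ℕ) : D.σ g (D.c u) = D.c (actc (enc (g : P9)) u) := by
  rw [c, actc]
  suffices H : ∀ l : List ℕ, (∀ i ∈ l, i < 8) →
      D.σ g ((l.map fun i => if Nat.testBit u i then D.p 0 (Fin.ofNat 9 (i + 1)) else 0).sum) =
        D.c (l.foldr (fun i acc => if Nat.testBit u i then
          pc ((enc (g : P9)).getD 0 0) ((enc (g : P9)).getD (i + 1) 0) ^^^ acc else acc) 0) from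
    H _ fun i hi => List.mem_range.1 hi
  intro l
  induction l with
  | nil =>
    intro _
    simp only [List.map_nil, List.sum_nil, List.foldr_nil, D.c_zero]
    exact map_zero (D.toAct.a g)
  | cons i l ih =>
    intro hl
    have hi : i < 8 := hl i List.mem_cons_self
    rw [List.map_cons, List.sum_cons, D.add, ih fun j hj => hl j (List.mem_cons_of_mem _ hj), List.foldr_cons]
    by_cases h : Nat.testBit u i
    · rw [if_pos h, if_pos h, D.c_xor, D.p_equi, ← D.c_pc]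
      have h0 : (enc (g : P9)).getD 0 0 = ((g : P9) 0 : ℕ) := enc_getElem _ 0
      have h1 : (enc (g : P9)).getD (i + 1) 0 = ((g : P9) ⟨i + 1, by omega⟩ : ℕ) := enc_getElem _ ⟨i + 1, by omega⟩
      rw [h0, h1, show Fin.ofNat 9 (i + 1) = ⟨i + 1, by omega⟩ from Fin.ext (Nat.mod_eq_of_lt (by omega))]
    · rw [if_neg h, if_neg h, show D.σ g 0 = 0 from map_zero (D.toAct.a g), zero_add]

end Fixing

end CfsgLib.ThType.Perm
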