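import Cfsg.Agent.Lib.ThType.Perm.Model
import Cfsg.Agent.Lib.ThType.Fusion.Table

/-!
# Coordinates of the deleted permutation module
-/

set_option autoImplicit false
set_option linter.unusedSectionVars false
set_option maxRecDepth 100000

namespace CfsgLib.ThType.Perm

open Equiv CfsgLib.ThType.Nine CfsgLib.ThType.Fusion CfsgLib.ExtraNine

/-- Every nonzero code is moved by a generator by the code of a pair. -/
def movedChk (u : ℕ) : Bool :=
  u == 0 || [2, 3, 4, 5, 6, 7, 8].any fun i =>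
    let v := u ^^^ actc ((List.range 9).map fun j => if j = 0 then 1 else if j = 1 then i else if j = i then 0 else j) u
    (List.range 9).any fun a => (List.range 9).any fun b => decide (a < b) && v == pc a b

theorem moved_ok : ((List.range 256).all movedChk) = true := by decide +kernel

namespace Fixing

variable {V : Type*} [AddCommGroup V] (D : Fixing V)

theorem enc_cy (i : ℕ) (hi : i ∈ [2, 3, 4, 5, 6, 7, 8]) : ∃ g : A9,
    enc (g : P9) = (List.range 9).map fun j => if j = 0 then 1 else if j = 1 then i else if j = i then 0 else j :=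
  exists_el _ (by revert i; decide +kernel)

theorem c_ne {u : ℕ} (hu : u < 256) (hu0 : u ≠ 0) : D.c u ≠ 0 := by
  intro h
  have h' := List.all_eq_true.1 moved_ok u (List.mem_range.2 hu)
  simp only [movedChk, Bool.or_eq_true, beq_iff_eq, hu0, false_or, List.any_eq_true, Bool.and_eq_true,
    decide_eq_true_eq, List.mem_range] at h'
  obtain ⟨i, hi, a, ha, b, hb, hab, e⟩ := h'
  obtain ⟨g, hg⟩ := enc_cy i hi
  have hz : D.c (u ^^^ actc (enc (g : P9)) u) = 0 := by
    rw [D.c_xor, ← D.c_act, h, zero_add]; exact map_zero (D.toAct.a g)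
  rw [hg, e] at hz
  exact D.p_ne (a := ⟨a, ha⟩) (b := ⟨b, hb⟩) (fun e => hab.ne (congrArg Fin.val e))
    (by rw [← D.c_pc]; exact hz)

theorem c_inj {u w : ℕ} (hu : u < 256) (hw : w < 256) (h : D.c u = D.c w) : u = w := by
  by_contra hne
  refine D.c_ne (Nat.xor_lt_two_pow (n := 8) hu hw) (fun e => hne (Nat.xor_eq_zero_iff.1 e)) ?_
  rw [D.c_xor, h, D.two]

theorem c_surj (v : V) : ∃ u < 256, D.c u = v := by
  haveI := D.finite
  have hb : Function.Bijective fun u : Fin 256 => D.c u :=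
    (Nat.bijective_iff_injective_and_card _).2
      ⟨fun u w h => Fin.ext (D.c_inj u.2 w.2 h), by rw [D.card, Nat.card_fin]⟩
  obtain ⟨u, rfl⟩ := hb.2 v
  exact ⟨u, u.2, rfl⟩

variable (S : QV V) (hiso : ∀ g, D.σ g ∈ S.Iso)
include hiso

theorem B_inv (g : A9) (u w : V) : S.B (D.σ g u) (D.σ g w) = S.B u w := by
  rw [QV.B, QV.B, ← D.add, (hiso g).2, (hiso g).2, (hiso g).2]

theorem q_p {a b : Fin 9} (h : a ≠ b) : S.q (D.p a b) = S.q D.v01 := by
  obtain ⟨k, k0, k1⟩ := exists_two h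
  rw [D.p_of (.inl ⟨k0, k1⟩), (hiso k).2]

theorem B_disjoint : S.B (D.p 0 1) (D.p 3 4) = 0 := by
  obtain ⟨g, hg⟩ := exists_el [3, 4, 5, 0, 1, 2, 6, 8, 7] (by decide +kernel)
  have hy : D.σ (cy 3 4 5) (D.p 0 1) = D.p 0 1 := by rw [D.p_equi]; rfl
  have h34 : D.p 3 4 ∈ D.L (cy 3 4 5) := by
    rw [show D.p 3 4 = D.σ g D.v01 from D.p_of (.inl ⟨val_of_enc hg 0, val_of_enc hg 1⟩)]
    exact D.L_conj (by rw [cy_conj' hg]; rfl) D.v01_spec.2.1
  have e : D.p 3 4 = D.σ (cy 3 4 5) (D.p 3 4) + D.σ (cy 3 4 5) (D.σ (cy 3 4 5) (D.p 3 4)) := by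
    have h : D.p 3 4 + (D.p 3 4 + D.σ (cy 3 4 5) (D.p 3 4) + D.σ (cy 3 4 5) (D.σ (cy 3 4 5) (D.p 3 4))) = D.p 3 4 :=
      h34
    rw [← add_assoc, ← add_assoc, D.two, zero_add] at h
    exact h.symm
  have e1 : ∀ w, S.B (D.p 0 1) (D.σ (cy 3 4 5) w) = S.B (D.p 0 1) w := fun w => by
    conv_lhs => rw [← hy, D.B_inv S hiso]
  rw [e, S.B_add_right, e1 (D.σ (cy 3 4 5) _), e1]
  exact CharTwo.add_self_eq_zero _

theorem q_v01 : S.q D.v01 = 1 := by
  refine (zmod_two_cases _).resolve_left fun h => D.v01_spec.1 (S.nondeg _ fun w => ?_)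
  show S.B D.v01 w = 0
  have hp : ∀ a b : Fin 9, S.q (D.p a b) = 0 := fun a b => by
    rcases eq_or_ne a b with rfl | hab
    · rw [D.p_self, S.q_zero]
    · rw [D.q_p S hiso hab, h]
  have hB : ∀ a b c : Fin 9, S.B (D.p a b) (D.p b c) = 0 := fun a b c => by
    rw [QV.B, D.p_add, hp, hp, hp]; rfl
  have h0 : ∀ j : Fin 9, S.B D.v01 (D.p 0 j) = 0 := fun j => by
    rw [← D.p01, D.p_comm 0 1]
    exact hB 1 0 j
  obtain ⟨u, -, rfl⟩ := D.c_surj w
  rw [c]
  induction List.range 8 with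
  | nil => exact S.B_zero_right _
  | cons i l ih =>
    rw [List.map_cons, List.sum_cons, S.B_add_right, ih, add_zero]
    split_ifs
    · exact h0 _
    · exact S.B_zero_right _

theorem q_c {u : ℕ} : S.q (D.c u) = b2z (qp u) := by
  suffices H : ∀ l : List ℕ, l.Nodup → (∀ i ∈ l, i < 8) →
      S.q ((l.map fun i => if Nat.testBit u i then D.p 0 (Fin.ofNat 9 (i + 1)) else 0).sum) =
          b2z ((l.countP fun i => Nat.testBit u i) % 4 == 1 || (l.countP fun i => Nat.testBit u i) % 4 == 2) ∧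
        ∀ j < 8, j ∉ l →
          S.B (D.p 0 (Fin.ofNat 9 (j + 1))) ((l.map fun i => if Nat.testBit u i then D.p 0 (Fin.ofNat 9 (i + 1)) else 0).sum) =
            ((l.countP fun i => Nat.testBit u i : ℕ) : ZMod 2) from
    (H _ List.nodup_range fun i hi => List.mem_range.1 hi).1
  have hne : ∀ {j : ℕ}, j < 8 → (0 : Fin 9) ≠ Fin.ofNat 9 (j + 1) := fun {j} hj e => by
    have := congrArg Fin.val e
    simp [Nat.mod_eq_of_lt (show j + 1 < 9 by omega)] at this
  have hb : ∀ {i j : ℕ}, i < 8 → j < 8 → i ≠ j →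
      S.B (D.p 0 (Fin.ofNat 9 (i + 1))) (D.p 0 (Fin.ofNat 9 (j + 1))) = 1 := fun {i j} hi hj hij => by
    have hd : Fin.ofNat 9 (i + 1) ≠ Fin.ofNat 9 (j + 1) := fun e => hij (by
      have := congrArg Fin.val e
      simp only [Fin.val_ofNat, Nat.mod_eq_of_lt (show i + 1 < 9 by omega),
        Nat.mod_eq_of_lt (show j + 1 < 9 by omega)] at this
      omega)
    rw [QV.B, D.p_comm 0 (Fin.ofNat 9 (i + 1)), D.p_add, D.q_p S hiso hd, D.q_p S hiso (hne hi).symm,
      D.q_p S hiso (hne hj), D.q_v01 S hiso]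
    decide
  intro l
  induction l with
  | nil => exact fun _ _ => ⟨by rw [List.map_nil, List.sum_nil, S.q_zero]; rfl, fun j _ _ => by simp [S.B_zero_right]⟩
  | cons i l ih =>
    intro hnd hl
    rw [List.nodup_cons] at hnd
    have hi : i < 8 := hl i List.mem_cons_self
    obtain ⟨i1, i2⟩ := ih hnd.2 fun j hj => hl j (List.mem_cons_of_mem _ hj)
    by_cases h : Nat.testBit u i
    · rw [List.map_cons, List.sum_cons, if_pos h, List.countP_cons_of_pos h]
      refine ⟨?_, fun j hj hjn => ?_⟩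
      · rw [S.q_add, i1, i2 i hi hnd.1, D.q_p S hiso (hne hi), D.q_v01 S hiso]
        generalize (List.countP (fun i => Nat.testBit u i) l) = k
        rw [← ZMod.natCast_mod k 2, show k % 2 = k % 4 % 2 by omega, show (k + 1) % 4 = (k % 4 + 1) % 4 by omega]
        have : k % 4 < 4 := Nat.mod_lt _ (by norm_num)
        generalize k % 4 = r at this ⊢
        interval_cases r <;> decide
      · rw [List.mem_cons, not_or] at hjn
        rw [S.B_add_right, i2 j hj hjn.2, hb hj hi hjn.1]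
        push_cast; ring
    · rw [List.map_cons, List.sum_cons, if_neg h, zero_add, List.countP_cons_of_neg h]
      exact ⟨i1, fun j hj hjn => i2 j hj fun hm => hjn (List.mem_cons_of_mem _ hm)⟩

/-- The coordinates. -/
noncomputable def coords : Coords S qp where
  c := D.c
  xor u _ w _ := D.c_xor u w
  inj u hu w hw h := D.c_inj hu hw h
  surj := D.c_surj
  q u _ := D.q_c S hiso

end Fixing

end CfsgLib.ThType.Perm
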